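import Groth.Agent.GrT.TwistTensor
import Groth.Agent.PConeLib.Basic
import Groth.Agent.C1Cap.PullGen
import Groth.Agent.ExtFund.DetSES

/-!
`O(n)` pulls back to `O(n)` along the morphism of a graded ring map on its domain of definition.
-/

set_option autoImplicit false
set_option backward.isDefEq.respectTransparency false
set_option backward.isDefEq.respectTransparency.types false
set_option linter.style.haveILetI false

universe u

open CategoryTheory CategoryTheory.Limits AlgebraicGeometry TopologicalSpace Opposite HomogeneousLocalization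
open Groth.Agent.QC (res resO res_res res_smul res_self)
open TMul (IsGen)
open ProjMor (eta ev res_eta_smul eta_res)

noncomputable section

namespace Groth.Agent.DomTwist

section Grading

variable {R A : Type u} [CommRing R] [CommRing A] [Algebra R A] (𝒜 : ℕ → Submodule R A) [GradedAlgebra 𝒜]

/-- The standard generator `g^n` of `O(n)` on `D₊(g)`. -/
def gen {g : A} (hg : g ∈ 𝒜 1) (n : ℤ) : Γ(GrTilde.tilde 𝒜 𝒜 n, Proj.basicOpen 𝒜 g) :=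
  GrT.twistGen 𝒜 (SetLike.pow_mem_graded n.toNat hg) (SetLike.pow_mem_graded (-n).toNat hg)
    (show ((n.toNat • 1 : ℕ) : ℤ) = ((-n).toNat • 1 : ℕ) + n by simp only [smul_eq_mul, mul_one]; omega)
    (U := Proj.basicOpen 𝒜 g) (fun y hy => (ProjectiveSpectrum.mem_basicOpen 𝒜 _ y).mpr
      (GrT.not_mem_pow 𝒜 ((ProjectiveSpectrum.mem_basicOpen 𝒜 g y).mp hy) _))

theorem isGen_gen {g : A} (hg : g ∈ 𝒜 1) (n : ℤ) : IsGen (gen 𝒜 hg n) :=
  GrT.twistGen_bijective 𝒜 _ _ _ (fun y hy => (ProjectiveSpectrum.mem_basicOpen 𝒜 _ y).mpr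
      (GrT.not_mem_pow 𝒜 ((ProjectiveSpectrum.mem_basicOpen 𝒜 g y).mp hy) _)) _

/-- The ratio `g' / g` on `D₊(g)`. -/
def ratio {g g' : A} (hg : g ∈ 𝒜 1) (hg' : g' ∈ 𝒜 1) : Γ(Proj 𝒜, Proj.basicOpen 𝒜 g) :=
  Proj.awayToSection 𝒜 g (Away.isLocalizationElem hg hg')

theorem val_ratio {g g' : A} (hg : g ∈ 𝒜 1) (hg' : g' ∈ 𝒜 1) (y : ProjectiveSpectrum 𝒜)
    (hy : y ∈ Proj.basicOpen 𝒜 g) :
    ((ratio 𝒜 hg hg' : Twist.O (𝒜 := 𝒜) (op (Proj.basicOpen 𝒜 g))).1 ⟨y, hy⟩).val =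
      Localization.mk g' ⟨g, (ProjectiveSpectrum.mem_basicOpen 𝒜 g y).mp hy⟩ := by
  refine (ProjectiveSpectrum.Proj.awayToSection_apply 𝒜 g _ ⟨y, hy⟩).trans ?_
  rw [Away.isLocalizationElem, Away.val_mk, Localization.mk_eq_mk', IsLocalization.map_mk',
    Localization.mk_eq_mk']
  simp

/-- The change of standard generators. -/
theorem res_gen {g g' : A} (hg : g ∈ 𝒜 1) (hg' : g' ∈ 𝒜 1) (n : ℤ) {W : (Proj 𝒜).Opens}
    (h : W ≤ Proj.basicOpen 𝒜 g) (h' : W ≤ Proj.basicOpen 𝒜 g') :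
    res (GrTilde.tilde 𝒜 𝒜 n) h' (gen 𝒜 hg' n) =
      (resO (Proj 𝒜) h (ratio 𝒜 hg hg') ^ n.toNat * resO (Proj 𝒜) h' (ratio 𝒜 hg' hg) ^ (-n).toNat) •
        res (GrTilde.tilde 𝒜 𝒜 n) h (gen 𝒜 hg n) := by
  refine GrT.pt_ext 𝒜 𝒜 fun y => ?_
  rw [GrT.pt_smul, GrT.pt_res, GrT.pt_res]
  have hy := (ProjectiveSpectrum.mem_basicOpen 𝒜 g y.1).mp (h y.2)
  have hy' := (ProjectiveSpectrum.mem_basicOpen 𝒜 g' y.1).mp (h' y.2)
  have e : ((resO (Proj 𝒜) h (ratio 𝒜 hg hg') ^ n.toNat * resO (Proj 𝒜) h' (ratio 𝒜 hg' hg) ^ (-n).toNat :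
      Twist.O (𝒜 := 𝒜) (op W)).1 y).val =
      ((ratio 𝒜 hg hg' : Twist.O (𝒜 := 𝒜) (op (Proj.basicOpen 𝒜 g))).1 ⟨y.1, h y.2⟩).val ^ n.toNat *
      ((ratio 𝒜 hg' hg : Twist.O (𝒜 := 𝒜) (op (Proj.basicOpen 𝒜 g'))).1 ⟨y.1, h' y.2⟩).val ^ (-n).toNat := by
    rw [← HomogeneousLocalization.val_pow, ← HomogeneousLocalization.val_pow, ← HomogeneousLocalization.val_mul]
    rfl
  rw [e, val_ratio, val_ratio, Localization.mk_pow, Localization.mk_pow, Localization.mk_mul]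
  show GrT.fr 𝒜 y.1 (g' ^ n.toNat) (g' ^ (-n).toNat) _ = Localization.mk _ _ • GrT.fr 𝒜 y.1 _ _ _
  rw [GrT.loc_smul_fr]
  refine GrT.fr_congr 𝒜 y.1 _ _ ?_
  simp only [Submonoid.coe_mul, SubmonoidClass.coe_pow, smul_eq_mul]
  ring

/-- The chart of `D₊(f)` on functions. -/
theorem awayι_appLE {d : ℕ} {f : A} (hf : f ∈ 𝒜 d) (hd : 0 < d)
    (h : (⊤ : (Spec (CommRingCat.of (Away 𝒜 f))).Opens) ≤ Proj.awayι 𝒜 f hf hd ⁻¹ᵁ Proj.basicOpen 𝒜 f) :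
    Proj.awayToSection 𝒜 f ≫ (Proj.awayι 𝒜 f hf hd).appLE (Proj.basicOpen 𝒜 f) ⊤ h =
      (Scheme.ΓSpecIso (CommRingCat.of (Away 𝒜 f))).inv := by
  have h1 := Proj.basicOpenToSpec_app_top 𝒜 f
  have h2 : Proj.awayToSection 𝒜 f =
      (Scheme.ΓSpecIso (CommRingCat.of (Away 𝒜 f))).inv ≫ (Proj.basicOpenToSpec 𝒜 f).app ⊤ ≫
        (Proj.basicOpen 𝒜 f).topIso.hom := by
    rw [h1]; simp
  have h3 : Proj.awayι 𝒜 f hf hd ≫ 𝟙 _ = (Proj.basicOpenIsoSpec 𝒜 f hf hd).inv ≫ (Proj.basicOpen 𝒜 f).ι := by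
    rw [Category.comp_id, Proj.basicOpenIsoSpec_inv_ι]
  rw [Category.comp_id] at h3
  rw [h2, Category.assoc, Category.assoc]
  refine (congrArg (_ ≫ ·) ?_).trans (Category.comp_id _)
  have h4 : (Proj.basicOpenToSpec 𝒜 f).app ⊤ ≫ (Proj.basicOpenIsoSpec 𝒜 f hf hd).inv.app ⊤ = 𝟙 _ := by
    rw [← Proj.basicOpenIsoSpec_hom 𝒜 f hf hd]
    have := Scheme.Hom.congr_app (Proj.basicOpenIsoSpec 𝒜 f hf hd).inv_hom_id ⊤
    simp only [Scheme.Hom.comp_app, Scheme.Hom.id_app] at this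
    simpa using this
  refine Eq.trans ?_ h4
  refine congrArg ((Proj.basicOpenToSpec 𝒜 f).app ⊤ ≫ ·) ?_
  simp only [← Proj.basicOpenIsoSpec_inv_ι, Scheme.Hom.comp_appLE, Scheme.Hom.app_eq_appLE,
    Scheme.Opens.topIso_hom, Scheme.Opens.ι_appLE, ← Category.assoc, ← Functor.map_comp]
  simp
  exact Scheme.Hom.map_appLE _ _ (homOfLE le_top).op

end Grading

variable {R A : Type u} [CommRing R] [CommRing A] [Algebra R A] {𝒜 : ℕ → Submodule R A} [GradedAlgebra 𝒜]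
  {B : Type u} [CommRing B] [Algebra R B] {ℬ : ℕ → Submodule R B} [GradedAlgebra ℬ] (φ : 𝒜 →+*ᵍ ℬ)
  {p : (PCone.dom φ : Scheme.{u}) ⟶ Proj 𝒜}
  (hp : ∀ (d : ℕ) (f : A) (hd : 0 < d) (hf : f ∈ 𝒜 d), PCone.chart φ hf hd ≫ p =
    Spec.map (CommRingCat.ofHom (Away.map φ f)) ≫ Proj.awayι 𝒜 f hf hd)

include hp in
/-- The morphism on functions of the standard opens. -/
theorem appLE_awayToSection {d : ℕ} {f : A} (hf : f ∈ 𝒜 d) (hd : 0 < d)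
    (h1 : (PCone.dom φ).ι ⁻¹ᵁ Proj.basicOpen ℬ (φ f) ≤ p ⁻¹ᵁ Proj.basicOpen 𝒜 f) (x : Away 𝒜 f) :
    p.appLE (Proj.basicOpen 𝒜 f) _ h1 (Proj.awayToSection 𝒜 f x) =
      (PCone.dom φ).ι.appLE (Proj.basicOpen ℬ (φ f)) _ le_rfl (Proj.awayToSection ℬ (φ f) (Away.map φ f x)) := by
  let c := PCone.chart φ hf hd
  haveI := PConeLib.isOpenImmersion_chart φ hf hd
  have hr : c.opensRange = (PCone.dom φ).ι ⁻¹ᵁ Proj.basicOpen ℬ (φ f) :=
    Opens.ext (Set.ext fun z => PConeLib.mem_opensRange_chart φ hf hd z)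
  have hc : (⊤ : (Spec (CommRingCat.of (Away ℬ (φ f)))).Opens) ≤ c ⁻¹ᵁ ((PCone.dom φ).ι ⁻¹ᵁ Proj.basicOpen ℬ (φ f)) := by
    rw [← hr]; exact fun t _ => ⟨t, rfl⟩
  haveI : IsIso (c.appLE _ ⊤ hc) := by
    haveI : IsIso (c.app ((PCone.dom φ).ι ⁻¹ᵁ Proj.basicOpen ℬ (φ f))) := c.isIso_app _ hr.ge
    haveI : IsIso (homOfLE hc) := ⟨homOfLE le_top, Subsingleton.elim _ _, Subsingleton.elim _ _⟩
    exact IsIso.comp_isIso
  refine (ConcreteCategory.bijective_of_isIso (c.appLE _ ⊤ hc)).1 ?_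
  have e1 := ConcreteCategory.congr_hom (Scheme.Hom.appLE_comp_appLE c p (Proj.basicOpen 𝒜 f) _ ⊤ h1 hc)
    (Proj.awayToSection 𝒜 f x)
  have e2 := ConcreteCategory.congr_hom (Scheme.Hom.appLE_comp_appLE c (PCone.dom φ).ι (Proj.basicOpen ℬ (φ f)) _ ⊤
    le_rfl hc) (Proj.awayToSection ℬ (φ f) (Away.map φ f x))
  rw [CommRingCat.comp_apply] at e1 e2
  refine e1.trans (Eq.trans ?_ e2.symm)
  have hA : (⊤ : (Spec (CommRingCat.of (Away 𝒜 f))).Opens) ≤ Proj.awayι 𝒜 f hf hd ⁻¹ᵁ Proj.basicOpen 𝒜 f := by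
    rw [← Proj.opensRange_awayι 𝒜 f hf hd]; exact fun t _ => ⟨t, rfl⟩
  have hB : (⊤ : (Spec (CommRingCat.of (Away ℬ (φ f)))).Opens) ≤
      Proj.awayι ℬ (φ f) (φ.2 hf) hd ⁻¹ᵁ Proj.basicOpen ℬ (φ f) := by
    rw [← Proj.opensRange_awayι ℬ (φ f) (φ.2 hf) hd]; exact fun t _ => ⟨t, rfl⟩
  have eA := ConcreteCategory.congr_hom (awayι_appLE 𝒜 hf hd hA) x
  have eB := ConcreteCategory.congr_hom (awayι_appLE ℬ (φ.2 hf) hd hB) (Away.map φ f x)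
  simp only [c, hp d f hd hf, PConeLib.chart_ι φ hf hd]
  rw [← Scheme.Hom.appLE_comp_appLE (Spec.map (CommRingCat.ofHom (Away.map φ f))) _ _ ⊤ ⊤ hA le_top]
  rw [CommRingCat.comp_apply]
  refine (congrArg _ eA).trans (Eq.trans ?_ eB.symm)
  rw [← CommRingCat.comp_apply]
  exact (ConcreteCategory.congr_hom (Scheme.ΓSpecIso_inv_naturality (CommRingCat.ofHom (Away.map φ f))) x).symm

section Restrict

variable {X Y : Scheme.{u}} (j : X ⟶ Y) [IsOpenImmersion j] (M : Y.Modules)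

/-- A section over an open containing an image, on the source. -/
def rgen {U : X.Opens} {D : Y.Opens} (h : j ''ᵁ U ≤ D) (e : Γ(M, D)) : Γ(M.restrict j, U) := res M h e

/-- Restrictions of generators generate. -/
theorem isGen_rgen {U : X.Opens} {D : Y.Opens} (h : j ''ᵁ U ≤ D) {e : Γ(M, D)} (he : IsGen e) :
    IsGen (rgen j M h e) := fun V hV =>
  ((he.res h) (j ''ᵁ V) (j.image_mono hV)).comp (ConcreteCategory.bijective_of_isIso (j.appIso V).inv)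

/-- A change of generators on the image gives one on the source. -/
theorem res_rgen {U U' V : X.Opens} {D D' : Y.Opens} (h : j ''ᵁ U ≤ D) (h' : j ''ᵁ U' ≤ D') (hV : V ≤ U) (hV' : V ≤ U')
    (e : Γ(M, D)) (e' : Γ(M, D')) (r : Γ(X, V))
    (hr : res M ((j.image_mono hV').trans h') e' = (j.appIso V).inv r • res M ((j.image_mono hV).trans h) e) :
    res (M.restrict j) hV' (rgen j M h' e') = r • res (M.restrict j) hV (rgen j M h e) := by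
  have e1 : ∀ {U₁ : X.Opens} {D₁ : Y.Opens} (h₁ : j ''ᵁ U₁ ≤ D₁) (hV₁ : V ≤ U₁) (x : Γ(M, D₁)),
      res (M.restrict j) hV₁ (rgen j M h₁ x) = res M ((j.image_mono hV₁).trans h₁) x :=
    fun h₁ hV₁ x => res_res M (j.image_mono hV₁) h₁ x
  exact ((e1 h' hV' e').trans hr).trans (congrArg (fun w : Γ(M.restrict j, V) => r • w) (e1 h hV e).symm)

end Restrict

include hp in
/-- The ratios of degree one elements on the source. -/
theorem appIso_inv_ev_ratio {k l : A} (hk : k ∈ 𝒜 1) (hl : l ∈ 𝒜 1) {W : (Proj 𝒜).Opens}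
    {V : (PCone.dom φ : Scheme.{u}).Opens} (hVW : V ≤ p ⁻¹ᵁ W) (hW : W ≤ Proj.basicOpen 𝒜 k)
    (hkI : (PCone.dom φ).ι ''ᵁ V ≤ Proj.basicOpen ℬ (φ k)) :
    ((PCone.dom φ).ι.appIso V).inv (ev p W V hVW (resO (Proj 𝒜) hW (ratio 𝒜 hk hl))) =
      resO (Proj ℬ) hkI (ratio ℬ (φ.2 hk) (φ.2 hl)) := by
  have hU := PConeLib.preimage_basicOpen hp Nat.one_pos hk
  have hV' : V ≤ (PCone.dom φ).ι ⁻¹ᵁ Proj.basicOpen ℬ (φ k) :=
    hU ▸ (hVW.trans (p.preimage_mono hW))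
  have h2 := appLE_awayToSection φ hp hk Nat.one_pos hU.ge (Away.isLocalizationElem hk hl)
  rw [PConeLib.away_map_elem φ hl hk] at h2
  have h3 := congrArg (resO (PCone.dom φ : Scheme.{u}) hV') h2
  have e1 : ev p W V hVW (resO (Proj 𝒜) hW (ratio 𝒜 hk hl)) =
      (PCone.dom φ).ι.appLE (Proj.basicOpen ℬ (φ k)) V hV' (ratio ℬ (φ.2 hk) (φ.2 hl)) := by
    refine Eq.trans ?_ (h3.trans ?_)
    · show p.appLE W V hVW _ = (PCone.dom φ : Scheme.{u}).presheaf.map _ (p.appLE _ _ hU.ge _)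
      rw [← CommRingCat.comp_apply, ← CommRingCat.comp_apply, Scheme.Hom.map_appLE, Scheme.Hom.appLE_map]
      rfl
    · show (PCone.dom φ : Scheme.{u}).presheaf.map _ ((PCone.dom φ).ι.appLE _ _ le_rfl _) = _
      rw [← CommRingCat.comp_apply, Scheme.Hom.appLE_map]
      rfl
  rw [e1, ← CommRingCat.comp_apply, Scheme.Hom.appLE_appIso_inv]

include hp in
/-- The standard opens of degree one cover the domain. -/
theorem exists_mem_preimage (hgen : (HomogeneousIdeal.irrelevant 𝒜).toIdeal = Ideal.span (𝒜 1 : Set A))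
    (z : (PCone.dom φ : Scheme.{u})) : ∃ g : (𝒜 1 : Submodule R A), z ∈ p ⁻¹ᵁ Proj.basicOpen 𝒜 (g : A) := by
  by_contra hno
  push Not at hno
  obtain ⟨d, f, hf, hd, hz⟩ := PConeLib.exists_chart φ z
  have hfz := (PConeLib.mem_opensRange_chart φ hf hd z).1 hz
  refine (ProjectiveSpectrum.mem_basicOpen 𝒜 f (p z)).1 ((PConeLib.preimage_basicOpen hp hd hf).ge hfz) ?_
  have : f ∈ Ideal.span (𝒜 1 : Set A) := hgen ▸ HomogeneousIdeal.mem_irrelevant_of_mem 𝒜 hd hf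
  refine (Ideal.span_le.2 fun g hg => ?_) this
  exact not_not.1 fun h => hno ⟨g, hg⟩ ((ProjectiveSpectrum.mem_basicOpen 𝒜 g (p z)).2 h)

set_option maxHeartbeats 1000000 in
/-- The change of inverse images of standard generators. -/
theorem res_eta_gen {X : Scheme.{u}} (q : X ⟶ Proj 𝒜) {g g' : A} (hg : g ∈ 𝒜 1) (hg' : g' ∈ 𝒜 1) (n : ℤ)
    {V : X.Opens} (hi : V ≤ q ⁻¹ᵁ Proj.basicOpen 𝒜 g) (hj : V ≤ q ⁻¹ᵁ Proj.basicOpen 𝒜 g') :
    res _ hj (eta q (Twist.twist 𝒜 n) _ (gen 𝒜 hg' n)) =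
      ev q (Proj.basicOpen 𝒜 g ⊓ Proj.basicOpen 𝒜 g') V (le_inf hi hj)
          (resO (Proj 𝒜) (inf_le_left : Proj.basicOpen 𝒜 g ⊓ Proj.basicOpen 𝒜 g' ≤ _) (ratio 𝒜 hg hg') ^ n.toNat *
            resO (Proj 𝒜) (inf_le_right : Proj.basicOpen 𝒜 g ⊓ Proj.basicOpen 𝒜 g' ≤ _) (ratio 𝒜 hg' hg) ^ (-n).toNat) •
        res _ hi (eta q (Twist.twist 𝒜 n) _ (gen 𝒜 hg n)) := by
  let W := Proj.basicOpen 𝒜 g ⊓ Proj.basicOpen 𝒜 g'
  have hVW : V ≤ q ⁻¹ᵁ W := le_inf hi hj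
  have := congrArg (fun s => res _ hVW (eta q (Twist.twist 𝒜 n) W s))
    (res_gen 𝒜 hg hg' n (inf_le_left : W ≤ _) (inf_le_right : W ≤ _))
  simp only [res_eta_smul] at this
  have el : res _ hVW (eta q (Twist.twist 𝒜 n) W (res (Twist.twist 𝒜 n) (inf_le_left : W ≤ _) (gen 𝒜 hg n))) =
      res _ hi (eta q (Twist.twist 𝒜 n) _ (gen 𝒜 hg n)) :=
    (congrArg _ (eta_res q (Twist.twist 𝒜 n) inf_le_left (gen 𝒜 hg n)).symm).trans (res_res _ _ _ _)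
  have er : res _ hVW (eta q (Twist.twist 𝒜 n) W (res (Twist.twist 𝒜 n) (inf_le_right : W ≤ _) (gen 𝒜 hg' n))) =
      res _ hj (eta q (Twist.twist 𝒜 n) _ (gen 𝒜 hg' n)) :=
    (congrArg _ (eta_res q (Twist.twist 𝒜 n) inf_le_right (gen 𝒜 hg' n)).symm).trans (res_res _ _ _ _)
  exact er.symm.trans (this.trans (congrArg (_ • ·) el))

include hp in
set_option maxHeartbeats 1000000 in
/-- The twisting sheaves pull back to the twisting sheaves. -/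
theorem nonempty_iso (hgen : (HomogeneousIdeal.irrelevant 𝒜).toIdeal = Ideal.span (𝒜 1 : Set A)) (n : ℤ) :
    Nonempty ((Scheme.Modules.pullback p).obj (Twist.twist 𝒜 n) ≅ (Twist.twist ℬ n).restrict (PCone.dom φ).ι) := by
  let j := (PCone.dom φ).ι
  let U : (𝒜 1 : Submodule R A) → (PCone.dom φ : Scheme.{u}).Opens := fun g => p ⁻¹ᵁ Proj.basicOpen 𝒜 (g : A)
  have hU : ∀ g : (𝒜 1 : Submodule R A), U g = j ⁻¹ᵁ Proj.basicOpen ℬ (φ g) := fun g =>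
    PConeLib.preimage_basicOpen hp Nat.one_pos g.2
  have hle : ∀ g : (𝒜 1 : Submodule R A), j ''ᵁ U g ≤ Proj.basicOpen ℬ (φ g) := fun g => by
    rw [hU, Scheme.Hom.image_preimage_eq_opensRange_inf]; exact inf_le_right
  refine ExtFund.nonempty_iso_of_gens U (exists_mem_preimage φ hp hgen)
    (fun g => eta p (Twist.twist 𝒜 n) _ (gen 𝒜 g.2 n))
    (fun g => rgen j (Twist.twist ℬ n) (hle g) (gen ℬ (φ.2 g.2) n))
    (fun g => C1Cap.isGen_eta p (isGen_gen 𝒜 g.2 n))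
    (fun g => isGen_rgen j (Twist.twist ℬ n) (hle g) (isGen_gen ℬ (φ.2 g.2) n)) fun g g' V hi hj r hr => ?_
  let W := Proj.basicOpen 𝒜 (g : A) ⊓ Proj.basicOpen 𝒜 (g' : A)
  let c := resO (Proj 𝒜) (inf_le_left : W ≤ _) (ratio 𝒜 g.2 g'.2) ^ n.toNat *
    resO (Proj 𝒜) (inf_le_right : W ≤ _) (ratio 𝒜 g'.2 g.2) ^ (-n).toNat
  have hVW : V ≤ p ⁻¹ᵁ W := le_inf hi hj
  have h1 := res_eta_gen p g.2 g'.2 n hi hj
  obtain rfl : r = ev p W V hVW c :=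
    (C1Cap.isGen_eta p (isGen_gen 𝒜 g.2 n) V hi).1 (hr.symm.trans h1)
  have hiI : j ''ᵁ V ≤ Proj.basicOpen ℬ (φ g) := (j.image_mono hi).trans (hle g)
  have hjI : j ''ᵁ V ≤ Proj.basicOpen ℬ (φ g') := (j.image_mono hj).trans (hle g')
  have e3 : (j.appIso V).inv (ev p W V hVW c) = resO (Proj ℬ) hiI (ratio ℬ (φ.2 g.2) (φ.2 g'.2)) ^ n.toNat *
      resO (Proj ℬ) hjI (ratio ℬ (φ.2 g'.2) (φ.2 g.2)) ^ (-n).toNat := by
    simp only [c, map_mul, map_pow]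
    rw [appIso_inv_ev_ratio φ hp g.2 g'.2 hVW inf_le_left hiI, appIso_inv_ev_ratio φ hp g'.2 g.2 hVW inf_le_right hjI]
  refine res_rgen j (Twist.twist ℬ n) (hle g) (hle g') hi hj _ _ _ ?_
  exact (res_gen ℬ (φ.2 g.2) (φ.2 g'.2) n hiI hjI).trans
    (congrArg (fun t => t • res (GrTilde.tilde ℬ ℬ n) hiI (gen ℬ (φ.2 g.2) n)) e3.symm)

end Groth.Agent.DomTwist
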